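import Mathlib

set_option autoImplicit false
universe u
open CategoryTheory CategoryTheory.Limits AlgebraicGeometry TopologicalSpace

namespace Groth.Agent.CenterRep

/-- A property of morphisms into `T` which is stable under precomposition, local on the source and
represented on every affine open by an ideal is represented by a closed subscheme of `T`. -/
theorem exists_closed_of_affine {T : Scheme.{u}} (P : ∀ ⦃T' : Scheme.{u}⦄, (T' ⟶ T) → Prop)
    (hcomp : ∀ {T'' T' : Scheme.{u}} (h : T'' ⟶ T') (g : T' ⟶ T), P g → P (h ≫ g))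
    (hloc : ∀ {T' : Scheme.{u}} (g : T' ⟶ T) (𝒰 : T'.OpenCover.{u}), (∀ i, P (𝒰.f i ≫ g)) → P g)
    (haff : ∀ U : T.affineOpens, ∃ I : Ideal Γ(T, U), ∀ (S : CommRingCat.{u}) (φ : Γ(T, U) ⟶ S),
      P (Spec.map φ ≫ U.2.fromSpec) ↔ I ≤ RingHom.ker φ.hom) :
    ∃ (Z : Scheme.{u}) (ι : Z ⟶ T), IsClosedImmersion ι ∧
      ∀ {T' : Scheme.{u}} (g : T' ⟶ T), (∃ z : T' ⟶ Z, z ≫ ι = g) ↔ P g := by
  choose I hI using haff
  have compat : ∀ (U : T.affineOpens) (f : Γ(T, U)),
      (I U).map (T.presheaf.map (homOfLE <| T.basicOpen_le f).op).hom = I (T.affineBasicOpen f) := by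
    intro U f
    set ρ := T.presheaf.map (homOfLE <| T.basicOpen_le f).op with hρ
    have hfs : Spec.map ρ ≫ U.2.fromSpec = (T.affineBasicOpen f).2.fromSpec :=
      U.2.map_fromSpec (T.affineBasicOpen f).2 (homOfLE <| T.basicOpen_le f).op
    have key : ∀ (S : CommRingCat.{u}) (φ : Γ(T, T.basicOpen f) ⟶ S),
        I (T.affineBasicOpen f) ≤ RingHom.ker φ.hom ↔ (I U).map ρ.hom ≤ RingHom.ker φ.hom := by
      intro S φ
      refine (hI (T.affineBasicOpen f) S φ).symm.trans ?_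
      have h : Spec.map φ ≫ (T.affineBasicOpen f).2.fromSpec =
          Spec.map (ρ ≫ φ) ≫ U.2.fromSpec := by
        rw [← hfs]
        exact (Category.assoc _ _ _).symm.trans (congrArg (· ≫ _) (Spec.map_comp _ _).symm)
      refine (iff_of_eq (congrArg (fun m => P m) h)).trans ((hI U S (ρ ≫ φ)).trans ?_)
      exact (Ideal.map_le_iff_le_comap (f := ρ.hom) (I := I U) (K := RingHom.ker φ.hom)).symm
    let J₁ : Ideal Γ(T, T.basicOpen f) := I (T.affineBasicOpen f)
    let J₂ : Ideal Γ(T, T.basicOpen f) := (I U).map ρ.hom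
    show J₂ = J₁
    refine le_antisymm ?_ ?_
    · exact ((key _ (CommRingCat.ofHom (Ideal.Quotient.mk J₁))).mp Ideal.mk_ker.ge).trans
        Ideal.mk_ker.le
    · exact ((key _ (CommRingCat.ofHom (Ideal.Quotient.mk J₂))).mpr Ideal.mk_ker.ge).trans
        Ideal.mk_ker.le
  let J : T.IdealSheafData := { ideal := I, map_ideal_basicOpen := compat }
  refine ⟨J.subscheme, J.subschemeι, inferInstance, fun {T'} g => ⟨?_, ?_⟩⟩
  · rintro ⟨z, rfl⟩
    refine hcomp _ _ (hloc _ J.subschemeCover.openCover fun U => ?_)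
    have h1 : J.subschemeCover.openCover.f U ≫ J.subschemeι =
        Spec.map (CommRingCat.ofHom (Ideal.Quotient.mk (J.ideal U))) ≫ U.2.fromSpec := by
      refine (J.subschemeCover_map_subschemeι U).trans ?_
      exact (Category.assoc _ _ _).trans (congrArg (Spec.map _ ≫ ·) U.2.isoSpec_inv_ι)
    rw [h1]
    exact (hI U _ _).mpr Ideal.mk_ker.ge
  · intro hg
    have hle : J.subschemeι.ker ≤ g.ker := by
      rw [Scheme.IdealSheafData.ker_subschemeι]
      refine Scheme.IdealSheafData.le_ofIdeals_iff.mpr fun U s hs => ?_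
      rw [RingHom.mem_ker]
      obtain ⟨S, hS, hSeq⟩ := (Opens.isBasis_iff_cover.mp T'.isBasis_affineOpens) (g ⁻¹ᵁ U.1)
      refine T'.sheaf.eq_of_locally_eq' (fun W : S => (W.1 : T'.Opens)) (g ⁻¹ᵁ U.1)
        (fun W => homOfLE (hSeq ▸ le_sSup W.2)) (by rw [hSeq, sSup_eq_iSup']) _ _ fun W => ?_
      have hW : IsAffineOpen (W.1 : T'.Opens) := hS W.2
      have hle : (W.1 : T'.Opens) ≤ g ⁻¹ᵁ U.1 := hSeq ▸ le_sSup W.2
      have h1 := U.2.SpecMap_appLE_fromSpec g hW hle
      have h2 := (hI U _ (g.appLE U.1 W.1 hle)).mp (h1 ▸ hcomp _ _ hg) hs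
      rw [RingHom.mem_ker] at h2
      exact h2.trans (map_zero (T'.presheaf.map (homOfLE hle).op).hom).symm
    exact ⟨IsClosedImmersion.lift _ _ hle, IsClosedImmersion.lift_fac _ _ hle⟩

end Groth.Agent.CenterRep
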