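import Mathlib
import Groth.Agent.CenterRep.Glue

set_option autoImplicit false
universe u
open CategoryTheory CategoryTheory.Limits AlgebraicGeometry TopologicalSpace
open scoped TensorProduct

namespace Groth.Agent.CenterRep

/-- The locus in an affine scheme where two maps to a separated scheme agree is cut out by an
ideal. -/
theorem exists_ideal_equalizer {S Y : Scheme.{u}} (y : Y ⟶ S) [IsSeparated y] {A : CommRingCat.{u}}
    (f g : Spec A ⟶ Y) (h : f ≫ y = g ≫ y) :
    ∃ J : Ideal A, ∀ (D : CommRingCat.{u}) (ψ : A ⟶ D),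
      Spec.map ψ ≫ f = Spec.map ψ ≫ g ↔ J ≤ RingHom.ker ψ.hom := by
  let A' : Over S := Over.mk (f ≫ y)
  let Y' : Over S := Over.mk y
  have : IsSeparated Y'.hom := ‹IsSeparated y›
  let F : A' ⟶ Y' := Over.homMk f rfl
  let G : A' ⟶ Y' := Over.homMk g h.symm
  let ι : (equalizer F G).left ⟶ Spec A := (equalizer.ι F G).left
  have hι : IsClosedImmersion ι := isClosedImmersion_equalizer_ι_left F G
  obtain ⟨J, e, he⟩ := IsClosedImmersion.Spec_iff.mp hι
  have hcond : ι ≫ f = ι ≫ g := congrArg CommaMorphism.left (equalizer.condition F G)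
  refine ⟨J, fun D ψ => ⟨fun hψ => ?_, fun hψ => ?_⟩⟩
  · let D' : Over S := Over.mk (Spec.map ψ ≫ f ≫ y)
    let Ψ : D' ⟶ A' := Over.homMk (Spec.map ψ) rfl
    have hΨ : Ψ ≫ F = Ψ ≫ G := by
      ext : 1
      exact hψ
    let z : Spec D ⟶ (equalizer F G).left := (equalizer.lift Ψ hΨ).left
    have hz : z ≫ ι = Spec.map ψ := congrArg CommaMorphism.left (equalizer.lift_ι Ψ hΨ)
    have h2 : ψ = CommRingCat.ofHom (Ideal.Quotient.mk J) ≫ Spec.preimage (z ≫ e.hom) := by
      apply Spec.map_injective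
      rw [Spec.map_comp, Spec.map_preimage, Category.assoc, ← he, hz]
    intro r hr
    rw [RingHom.mem_ker, h2, CommRingCat.hom_comp, RingHom.comp_apply, CommRingCat.hom_ofHom,
      Ideal.Quotient.eq_zero_iff_mem.mpr hr, map_zero]
  · let χ : CommRingCat.of (A ⧸ J) ⟶ D :=
      CommRingCat.ofHom (Ideal.Quotient.lift J ψ.hom fun a ha => hψ ha)
    have h1 : Spec.map ψ = Spec.map χ ≫ e.inv ≫ ι := by
      rw [he, e.inv_hom_id_assoc, ← Spec.map_comp]
      rfl
    simp [h1, hcond]

/-- Coefficients of an ideal of `R ⊗ B` in a basis of `B`. -/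
theorem exists_coefficient_ideal (k : Type u) [Field k] {R B : Type u} [CommRing R] [Algebra k R]
    [CommRing B] [Algebra k B] (J : Ideal (R ⊗[k] B)) :
    ∃ I : Ideal R, ∀ (S : Type u) [CommRing S] [Algebra k S] (φ : R →ₐ[k] S),
      I ≤ RingHom.ker φ.toRingHom ↔
        J ≤ RingHom.ker (Algebra.TensorProduct.map φ (AlgHom.id k B)).toRingHom := by
  classical
  let b := Module.Free.chooseBasis k B
  let c : (R ⊗[k] B) → Module.Free.ChooseBasisIndex k B → R := fun z i =>
    TensorProduct.equivFinsuppOfBasisRight b z i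
  refine ⟨Ideal.span {r | ∃ z ∈ J, ∃ i, c z i = r}, fun S _ _ φ => ?_⟩
  have nat : ∀ (z : R ⊗[k] B) i,
      TensorProduct.equivFinsuppOfBasisRight b (Algebra.TensorProduct.map φ (AlgHom.id k B) z) i =
        φ (c z i) := by
    intro z i
    induction z using TensorProduct.induction_on with
    | zero => simp [c]
    | tmul r m => simp [c]
    | add p q hp hq => simp [c, map_add] at *; simp [hp, hq]
  rw [Ideal.span_le]
  constructor
  · intro h z hz
    refine (TensorProduct.equivFinsuppOfBasisRight b).injective (a₂ := 0) ?_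
    ext i
    rw [map_zero]
    exact (nat z i).trans (h ⟨z, hz, i, rfl⟩)
  · rintro h _ ⟨z, hz, i, rfl⟩
    have h0 : Algebra.TensorProduct.map φ (AlgHom.id k B) z = 0 := h hz
    show φ (c z i) = 0
    rw [← nat, h0, map_zero]
    rfl

variable {k : Type u} [Field k] {T X Y : Scheme.{u}} {t : T ⟶ Spec (.of k)}
  {x : X ⟶ Spec (.of k)}

/-- `g : T' ⟶ T` equalises `a` and `b` universally: every point of `T ×ₖ X` lying over `g` does. -/
def Equalizes (a b : pullback t x ⟶ Y) {T' : Scheme.{u}} (g : T' ⟶ T) : Prop :=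
  ∀ ⦃W : Scheme.{u}⦄ (w : W ⟶ pullback t x) (u : W ⟶ T'),
    w ≫ pullback.fst t x = u ≫ g → w ≫ a = w ≫ b

theorem exists_piece {y : Y ⟶ Spec (.of k)} [IsSeparated y] (a b : pullback t x ⟶ Y)
    (hab : a ≫ y = b ≫ y) {R : CommRingCat.{u}} (ιU : Spec R ⟶ T) {B : CommRingCat.{u}}
    (v : Spec B ⟶ X) :
    ∃ I : Ideal R, ∀ (S : CommRingCat.{u}) (φ : R ⟶ S),
      (∀ (D : CommRingCat.{u}) (w : Spec D ⟶ pullback t x) (u : Spec D ⟶ Spec S)
        (v' : Spec D ⟶ Spec B), w ≫ pullback.fst t x = u ≫ Spec.map φ ≫ ιU →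
          w ≫ pullback.snd t x = v' ≫ v → w ≫ a = w ≫ b) ↔ I ≤ RingHom.ker φ.hom := by
  let ρ : CommRingCat.of k ⟶ R := Spec.preimage (ιU ≫ t)
  let σ : CommRingCat.of k ⟶ B := Spec.preimage (v ≫ x)
  let _ : Algebra k R := ρ.hom.toAlgebra
  let _ : Algebra k B := σ.hom.toAlgebra
  let inl : R ⟶ CommRingCat.of (R ⊗[k] B) :=
    CommRingCat.ofHom Algebra.TensorProduct.includeLeftRingHom
  let inr : B ⟶ CommRingCat.of (R ⊗[k] B) :=
    CommRingCat.ofHom (Algebra.TensorProduct.includeRight : B →ₐ[k] R ⊗[k] B).toRingHom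
  have hρσ : ρ ≫ inl = σ ≫ inr := by
    ext r
    exact (AlgHom.commutes (Algebra.TensorProduct.includeLeft : R →ₐ[k] R ⊗[k] B) r).trans
      (AlgHom.commutes (Algebra.TensorProduct.includeRight : B →ₐ[k] R ⊗[k] B) r).symm
  let c : Spec (CommRingCat.of (R ⊗[k] B)) ⟶ pullback t x :=
    pullback.lift (Spec.map inl ≫ ιU) (Spec.map inr ≫ v) (by
      have h1 : Spec.map (ρ ≫ inl) = Spec.map (σ ≫ inr) := by rw [hρσ]
      simpa [ρ, σ] using h1)
  obtain ⟨J, hJ⟩ := exists_ideal_equalizer y (c ≫ a) (c ≫ b) (by simp [hab])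
  obtain ⟨I, hI⟩ := exists_coefficient_ideal k J
  refine ⟨I, fun S φ => ?_⟩
  let _ : Algebra k S := (φ.hom.comp (algebraMap k R)).toAlgebra
  let φa : (R : Type u) →ₐ[k] S := { φ.hom with commutes' := fun _ => rfl }
  let m := Algebra.TensorProduct.map φa (AlgHom.id k B)
  refine Iff.trans ?_ (hI S φa).symm
  constructor
  · intro h
    refine (hJ (CommRingCat.of (S ⊗[k] B)) (CommRingCat.ofHom m.toRingHom)).mp ?_
    have e1 : inl ≫ CommRingCat.ofHom m.toRingHom =
        φ ≫ CommRingCat.ofHom Algebra.TensorProduct.includeLeftRingHom := by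
      ext r
      exact (Algebra.TensorProduct.map_tmul φa (AlgHom.id k B) r 1).trans (by simp; rfl)
    have e2 : inr ≫ CommRingCat.ofHom m.toRingHom = CommRingCat.ofHom
        (Algebra.TensorProduct.includeRight : B →ₐ[k] S ⊗[k] B).toRingHom := by
      ext r
      exact (Algebra.TensorProduct.map_tmul φa (AlgHom.id k B) 1 r).trans (by simp)
    have h1 := h (CommRingCat.of (S ⊗[k] B)) (Spec.map (CommRingCat.ofHom m.toRingHom) ≫ c)
      (Spec.map (CommRingCat.ofHom Algebra.TensorProduct.includeLeftRingHom))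
      (Spec.map (CommRingCat.ofHom
        (Algebra.TensorProduct.includeRight : B →ₐ[k] S ⊗[k] B).toRingHom))
      (by simp only [c, Category.assoc, pullback.lift_fst, ← Spec.map_comp_assoc, e1])
      (by simp only [c, Category.assoc, pullback.lift_snd, ← Spec.map_comp_assoc, e2])
    simpa using h1
  · intro hJm D w u v' hu hv
    obtain ⟨β, rfl⟩ := Spec.map_surjective u
    obtain ⟨γ, rfl⟩ := Spec.map_surjective v'
    have hcompat : ρ ≫ φ ≫ β = σ ≫ γ := by
      apply Spec.map_injective
      have h1 : Spec.map (φ ≫ β) ≫ ιU ≫ t = Spec.map γ ≫ v ≫ x := by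
        rw [Spec.map_comp, Category.assoc, ← reassoc_of% hu, pullback.condition,
          reassoc_of% hv]
      simpa [ρ, σ] using h1
    let _ : Algebra k D := (γ.hom.comp (algebraMap k B)).toAlgebra
    let βa : (S : Type u) →ₐ[k] D :=
      { β.hom with commutes' := fun r => congrArg (fun f : CommRingCat.of k ⟶ D => f.hom r) hcompat }
    let γa : (B : Type u) →ₐ[k] D := { γ.hom with commutes' := fun _ => rfl }
    let χ : S ⊗[k] B →ₐ[k] D := Algebra.TensorProduct.lift βa γa fun p q => Commute.all _ _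
    let ψ : CommRingCat.of (R ⊗[k] B) ⟶ D := CommRingCat.ofHom (χ.comp m).toRingHom
    have e1 : inl ≫ ψ = φ ≫ β := by
      ext r
      show χ (m (r ⊗ₜ 1)) = β.hom (φ.hom r)
      simp [m, χ]
      rfl
    have e2 : inr ≫ ψ = γ := by
      ext r
      show χ (m (1 ⊗ₜ r)) = γ.hom r
      simp [m, χ]
      rfl
    have hw : w = Spec.map ψ ≫ c := by
      apply pullback.hom_ext
      · simp only [hu, c, Category.assoc, pullback.lift_fst, ← Spec.map_comp_assoc, e1]
      · simp only [hv, c, Category.assoc, pullback.lift_snd, ← Spec.map_comp_assoc, e2]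
    rw [hw, Category.assoc, Category.assoc]
    refine (hJ D ψ).mpr fun z hz => ?_
    show χ (m z) = 0
    rw [show m z = 0 from hJm hz, map_zero]

/-- Over a field, the locus in `T` over which two maps `T ×ₖ X ⟶ Y` into a separated scheme agree
is a closed subscheme. -/
theorem exists_closed_equalizes {y : Y ⟶ Spec (.of k)} [IsSeparated y]
    (a b : pullback t x ⟶ Y) (hab : a ≫ y = b ≫ y) :
    ∃ (Z : Scheme.{u}) (ι : Z ⟶ T), IsClosedImmersion ι ∧
      ∀ {T' : Scheme.{u}} (g : T' ⟶ T), (∃ z : T' ⟶ Z, z ≫ ι = g) ↔ Equalizes a b g := by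
  refine exists_closed_of_affine (fun T' g => Equalizes a b g) ?_ ?_ ?_
  · intro T'' T' h g hg W w u hu
    exact hg w (u ≫ h) (by simpa using hu)
  · intro T' g 𝒰 h W w u hu
    refine Scheme.Cover.hom_ext (𝒰.pullback₁ u) _ _ fun i => ?_
    rw [← Category.assoc, ← Category.assoc]
    refine h i _ (𝒰.pullbackHom u i) ?_
    rw [Category.assoc, hu, ← Category.assoc, ← 𝒰.pullbackHom_map u i, Category.assoc]
  · intro U
    choose I hI using fun j : X.affineCover.I₀ =>
      exists_piece a b hab U.2.fromSpec (X.affineCover.f j)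
    refine ⟨⨆ j, I j, fun S φ => ?_⟩
    rw [iSup_le_iff]
    simp only [← fun j => hI j S φ]
    constructor
    · intro h j D w u v' hu _
      exact h w u hu
    · intro h W w u hu
      have key : ∀ (V : Scheme.{u}) [IsAffine V] (q : V ⟶ W) (j : X.affineCover.I₀)
          (r : V ⟶ X.affineCover.X j), q ≫ w ≫ pullback.snd t x = r ≫ X.affineCover.f j →
            q ≫ w ≫ a = q ≫ w ≫ b := by
        intro V _ q j r hr
        rw [← cancel_epi V.isoSpec.inv]
        have h1 := h j Γ(V, ⊤) (V.isoSpec.inv ≫ q ≫ w) (V.isoSpec.inv ≫ q ≫ u)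
          (V.isoSpec.inv ≫ r) (by simp only [Category.assoc, hu])
          (by simp only [Category.assoc, hr]; exact (Category.assoc _ _ _).symm)
        simpa only [Category.assoc] using h1
      refine Scheme.Cover.hom_ext (X.affineCover.pullback₁ (w ≫ pullback.snd t x)) _ _
        fun j => ?_
      refine Scheme.Cover.hom_ext
        ((X.affineCover.pullback₁ (w ≫ pullback.snd t x)).X j).affineCover _ _
        fun l => ?_
      have hr := congrArg
        (((X.affineCover.pullback₁ (w ≫ pullback.snd t x)).X j).affineCover.f l ≫ ·)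
        (X.affineCover.pullbackHom_map (w ≫ pullback.snd t x) j).symm
      exact (Category.assoc _ _ _).symm.trans ((key _ _ j
        (((X.affineCover.pullback₁ (w ≫ pullback.snd t x)).X j).affineCover.f l ≫
          X.affineCover.pullbackHom (w ≫ pullback.snd t x) j)
        ((Category.assoc _ _ _).trans (hr.trans (Category.assoc _ _ _).symm))).trans
          (Category.assoc _ _ _))

end Groth.Agent.CenterRep
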